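import Groth.Agent.Props.GenLocus
import Mathlib.Topology.Sheaves.SheafCondition.UniqueGluing
import Mathlib.Algebra.Category.ModuleCat.Presheaf

/-!
# The invertible module of a cocycle of functions
-/

set_option autoImplicit false
set_option linter.style.haveILetI false
set_option backward.isDefEq.respectTransparency false
set_option backward.isDefEq.respectTransparency.types false

universe u

open CategoryTheory CategoryTheory.Limits AlgebraicGeometry Opposite TopologicalSpace

noncomputable section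

namespace Groth.Agent.LineCoc

open Groth.Agent.QCoh Groth.Agent.Props.GenLocus

/-- A cocycle of functions on a family of opens. -/
structure Cocycle (X : Scheme.{u}) where
  /-- the indices -/
  ι : Type u
  /-- the opens -/
  W : ι → X.Opens
  /-- the transition functions -/
  a : ∀ i j, Γ(X, W i ⊓ W j)
  cover : ⊤ ≤ iSup W
  self : ∀ i, a i i = 1
  coc : ∀ i j k (V : X.Opens) (h₁ : V ≤ W i ⊓ W j) (h₂ : V ≤ W j ⊓ W k) (h₃ : V ≤ W i ⊓ W k),
    rres h₁ (a i j) * rres h₂ (a j k) = rres h₃ (a i k)

variable {X : Scheme.{u}} (C : Cocycle X)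

/-- Compatible families over `V`. -/
def fam (V : X.Opens) : AddSubgroup (∀ k, Γ(X, V ⊓ C.W k)) where
  carrier := {s | ∀ k l, rres (inf_le_inf_left V inf_le_left : V ⊓ (C.W k ⊓ C.W l) ≤ V ⊓ C.W k) (s k) =
    rres (inf_le_right : V ⊓ (C.W k ⊓ C.W l) ≤ _) (C.a k l) *
      rres (inf_le_inf_left V inf_le_right : V ⊓ (C.W k ⊓ C.W l) ≤ V ⊓ C.W l) (s l)}
  zero_mem' k l := by simp
  add_mem' hs ht k l := by simp only [Pi.add_apply, map_add, hs k l, ht k l, mul_add]
  neg_mem' hs k l := by simp only [Pi.neg_apply, map_neg, hs k l, mul_neg]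

theorem res_mem {U V : X.Opens} (h : V ≤ U) {s : ∀ k, Γ(X, U ⊓ C.W k)} (hs : s ∈ fam C U) :
    (fun k => rres (inf_le_inf_right (C.W k) h) (s k)) ∈ fam C V := by
  intro k l
  have h1 := congrArg (rres (inf_le_inf_right (C.W k ⊓ C.W l) h)) (hs k l)
  simp only [map_mul, rres_rres] at h1 ⊢
  exact h1

/-- The abelian presheaf of compatible families. -/
def preAb : TopCat.Presheaf Ab.{u} X where
  obj U := AddCommGrpCat.of (fam C U.unop)
  map {U V} i := AddCommGrpCat.ofHom
    { toFun := fun s => ⟨fun k => rres (inf_le_inf_right (C.W k) i.unop.le) (s.1 k), res_mem C i.unop.le s.2⟩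
      map_zero' := Subtype.ext (funext fun k => map_zero _)
      map_add' := fun s t => Subtype.ext (funext fun k => map_add _ _ _) }
  map_id U := by
    ext ⟨s, hs⟩ k
    exact rres_self _ (s k)
  map_comp {U V T} i j := by
    ext ⟨s, hs⟩ k
    exact (rres_rres _ _ (s k)).symm

theorem smul_mem {V : X.Opens} (r : Γ(X, V)) {s : ∀ k, Γ(X, V ⊓ C.W k)} (hs : s ∈ fam C V) :
    (fun k => rres (inf_le_left : V ⊓ C.W k ≤ V) r * s k) ∈ fam C V := by
  intro k l
  simp only [map_mul, rres_rres, hs k l]
  ring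

instance famModule (V : X.Opens) : Module Γ(X, V) (fam C V) where
  smul r s := ⟨fun k => rres (inf_le_left : V ⊓ C.W k ≤ V) r * s.1 k, smul_mem C r s.2⟩
  one_smul s := Subtype.ext (funext fun k => show rres _ 1 * _ = _ by rw [map_one, one_mul])
  mul_smul r r' s := Subtype.ext (funext fun k => show rres _ (r * r') * _ = rres _ r * (rres _ r' * _) by
    rw [map_mul, mul_assoc])
  smul_zero r := Subtype.ext (funext fun k => show rres _ r * 0 = 0 from mul_zero _)
  smul_add r s t := Subtype.ext (funext fun k => show rres _ r * (_ + _) = _ + _ from mul_add _ _ _)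
  add_smul r r' s := Subtype.ext (funext fun k => show rres _ (r + r') * _ = _ + _ by rw [map_add, add_mul]; rfl)
  zero_smul s := Subtype.ext (funext fun k => show rres _ 0 * _ = 0 by rw [map_zero, zero_mul])

theorem smul_apply {V : X.Opens} (r : Γ(X, V)) (s : fam C V) (k : C.ι) :
    (r • s).1 k = rres (inf_le_left : V ⊓ C.W k ≤ V) r * s.1 k := rfl

instance preAbModule (U : X.Opensᵒᵖ) : Module (X.ringCatSheaf.obj.obj U) ((preAb C).obj U) :=
  inferInstanceAs (Module Γ(X, U.unop) (fam C U.unop))

theorem preAb_isSheaf : TopCat.Presheaf.IsSheaf (preAb C) := by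
  rw [TopCat.Presheaf.isSheaf_iff_isSheafUniqueGluing]
  intro κ U sf hsf
  have hk : ∀ k, ∃! t : Γ(X, iSup U ⊓ C.W k),
      ∀ i, rres (inf_le_inf_right (C.W k) (le_iSup U i)) t = (sf i : fam C (U i)).1 k := fun k => by
    refine X.sheaf.existsUnique_gluing' (fun i => U i ⊓ C.W k) (iSup U ⊓ C.W k)
      (fun i => homOfLE (inf_le_inf_right (C.W k) (le_iSup U i))) (fun x hx => ?_)
      (fun i => (sf i : fam C (U i)).1 k) (fun i j => ?_)
    · obtain ⟨i, hi⟩ := Opens.mem_iSup.1 hx.1
      exact Opens.mem_iSup.2 ⟨i, hi, hx.2⟩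
    · have h1 := congrArg (rres (le_inf (inf_le_inf inf_le_left inf_le_left) (inf_le_left.trans inf_le_right) :
        (U i ⊓ C.W k) ⊓ (U j ⊓ C.W k) ≤ (U i ⊓ U j) ⊓ C.W k)) (congrArg (fun s : fam C (U i ⊓ U j) => s.1 k) (hsf i j))
      simp only [preAb] at h1
      exact ((rres_rres _ _ _).symm.trans h1).trans (rres_rres _ _ _)
  choose t ht htu using hk
  have hmem : t ∈ fam C (iSup U) := by
    intro k l
    refine X.sheaf.eq_of_locally_eq' (fun i => U i ⊓ (C.W k ⊓ C.W l)) _
      (fun i => homOfLE (inf_le_inf_right _ (le_iSup U i))) (fun x hx => ?_) _ _ fun i => ?_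
    · obtain ⟨i, hi⟩ := Opens.mem_iSup.1 hx.1
      exact Opens.mem_iSup.2 ⟨i, hi, hx.2⟩
    · have h1 := (sf i : fam C (U i)).2 k l
      rw [← ht k i, ← ht l i, rres_rres, rres_rres] at h1
      show rres (inf_le_inf_right _ (le_iSup U i)) _ = rres (inf_le_inf_right _ (le_iSup U i)) _
      rw [map_mul, rres_rres, rres_rres, rres_rres]
      exact h1
  exact ⟨(⟨t, hmem⟩ : fam C (iSup U)), fun i => Subtype.ext (funext fun k => ht k i),
    fun s hs => Subtype.ext (funext fun k => htu k ((s : fam C (iSup U)).1 k) fun i =>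
      congrArg (fun z : fam C (U i) => z.1 k) (hs i))⟩

/-- The module of a cocycle. -/
def mod : X.Modules :=
  ⟨PresheafOfModules.ofPresheaf (R := X.ringCatSheaf.obj) (preAb C)
    (fun {U V} i r s => by
      refine Subtype.ext (funext fun k => ?_)
      show rres _ (rres _ (show Γ(X, U.unop) from r) * _) = rres _ (rres i.unop.le (show Γ(X, U.unop) from r)) * rres _ _
      rw [map_mul, rres_rres, rres_rres]),
    preAb_isSheaf C⟩

theorem gen_mem (i : C.ι) :
    (fun k => rres (le_inf inf_le_right inf_le_left : C.W i ⊓ C.W k ≤ C.W k ⊓ C.W i) (C.a k i)) ∈ fam C (C.W i) := by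
  intro k l
  simp only [rres_rres]
  exact (C.coc k l i _ _ _ _).symm

/-- The standard generator on `W i`. -/
def gen (i : C.ι) : Γ(mod C, C.W i) :=
  (⟨_, gen_mem C i⟩ : fam C (C.W i))

theorem res_gen (i : C.ι) {V : X.Opens} (h : V ≤ C.W i) (k : C.ι) :
    (show fam C V from res (mod C) h (gen C i)).1 k =
      rres (le_inf inf_le_right (inf_le_left.trans h) : V ⊓ C.W k ≤ C.W k ⊓ C.W i) (C.a k i) :=
  rres_rres _ _ _

theorem isGen_gen (i : C.ι) : IsGen (mod C) (C.W i) (gen C i) := by
  intro V h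
  have hi : V ≤ V ⊓ C.W i := le_inf le_rfl h
  constructor
  · intro b b' hb
    have h1 := congrArg (fun s : fam C V => rres hi (s.1 i)) hb
    have e : ∀ b : Γ(X, V), rres hi ((show fam C V from sm (gen C i) h b).1 i) = b := fun b => by
      show rres hi (rres _ b * (show fam C V from res (mod C) h (gen C i)).1 i) = b
      rw [res_gen, C.self, map_one, mul_one, rres_rres]
      exact rres_self _ _
    exact (e b).symm.trans (h1.trans (e b'))
  · intro s
    refine ⟨rres hi ((show fam C V from s).1 i), Subtype.ext (funext fun k => ?_)⟩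
    show rres _ (rres hi _) * (show fam C V from res (mod C) h (gen C i)).1 k = (show fam C V from s).1 k
    rw [res_gen, rres_rres]
    have hle : V ⊓ C.W k ≤ V ⊓ (C.W k ⊓ C.W i) := le_inf inf_le_left (le_inf inf_le_right (inf_le_left.trans h))
    have h1 := congrArg (rres hle) ((show fam C V from s).2 k i)
    simp only [map_mul, rres_rres] at h1
    rw [mul_comm]
    refine h1.symm.trans ?_
    exact rres_self _ _

theorem res_gen_eq (i j : C.ι) :
    res (mod C) (inf_le_right : C.W i ⊓ C.W j ≤ C.W j) (gen C j) =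
      C.a i j • res (mod C) (inf_le_left : C.W i ⊓ C.W j ≤ C.W i) (gen C i) := by
  refine Subtype.ext (funext fun k => ?_)
  show (show fam C (C.W i ⊓ C.W j) from res (mod C) inf_le_right (gen C j)).1 k =
    rres inf_le_left (C.a i j) * (show fam C (C.W i ⊓ C.W j) from res (mod C) inf_le_left (gen C i)).1 k
  rw [res_gen, res_gen, mul_comm]
  exact (C.coc k i j _ _ _ _).symm

theorem isInvertible : PicF.IsInvertible (mod C) := fun x => by
  obtain ⟨i, hi⟩ := Opens.mem_iSup.1 (C.cover (trivial : x ∈ (⊤ : X.Opens)))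
  exact ⟨C.W i, hi, LFFrame.IsFrame.nonempty_restrict_iso ((isGen_iff_isFrame _).1 (isGen_gen C i))⟩

end Groth.Agent.LineCoc
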